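import Groth.Agent.InterDiv23.Quot
import Groth.Agent.NumTriv23.Uniform

/-!
# The iterated quotients form a bounded family
-/

set_option autoImplicit false
set_option linter.style.haveILetI false
set_option linter.unusedSectionVars false
set_option backward.isDefEq.respectTransparency.types false

universe u

open CategoryTheory CategoryTheory.Limits AlgebraicGeometry TopologicalSpace Opposite
open Groth.Agent.Coherent Groth.Agent.PicLib Groth.Agent.AmpleLib Groth.Agent.EulerLib
open Groth.Agent.H0Growth23 Groth.Agent.NumTriv23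

noncomputable section

namespace Groth.Agent.InterDiv23

variable {X : Scheme.{u}} (k : Type u) [Field k] [X.Over (Spec (CommRingCat.of k))]
  [IsProper (X ↘ Spec (CommRingCat.of k))]

local notation "St" => DerSch.stalkFunctor X

/-- Cokernels of sections of classes numerically equal to `a`, twisted back. -/
def cutFam (a : InvCl X) (F : X.Modules → Prop) (H : X.Modules) : Prop :=
  ∃ (G P P' : X.Modules) (hP : PicF.IsInvertible P) (hP' : PicF.IsInvertible P') (b : Γ(P, (⊤ : X.Opens)))
    (c₀ : InvCl X), F G ∧ IsNum k c₀ ∧ InvCl.mk P hP = a * c₀ ∧ InvCl.mk P hP * InvCl.mk P' hP' = 1 ∧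
      AssSch.Ass (CohB1.tensorMod G P') ⊆ (glocus P b : Set X) ∧
      H = cokernel (EulerLib.mulSec (CohB1.tensorMod G P') b)

/-- The `j`-fold iteration starting from the structure sheaf. -/
def iterFam (a : InvCl X) : ℕ → X.Modules → Prop
  | 0 => fun G => G = Coh.structureModule X
  | j + 1 => cutFam k a (iterFam a j)

theorem bddFam_cutFam {F : X.Modules → Prop} (hF : BddFam k F) (a : InvCl X) : BddFam k (cutFam k a F) := by
  haveI := isNoetherian_of_proper (X := X) k
  refine ⟨?_, fun e i => ?_⟩
  · rintro H ⟨G, P, P', hP, hP', b, c₀, hG, -, -, -, -, rfl⟩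
    exact isCoh_cokernel _ (isCoh_twist hP' (hF.coh G hG)).1 (isCoh_twist hP (isCoh_twist hP' (hF.coh G hG)))
  obtain ⟨a', ha'⟩ := H0Growth23.exists_inv (isInvertible_repCl a)
  rw [mk_repCl] at ha'
  obtain ⟨B₁, hB₁⟩ := hF.bdd e i
  obtain ⟨B₂, hB₂⟩ := hF.bdd (a' * e) (i + 1)
  refine ⟨B₁ + B₂, ?_⟩
  rintro H ⟨G, P, P', hP, hP', b, c₀, hG, hc₀, hPa, hPP, hb, rfl⟩ c hc
  have hcoh := hF.coh G hG
  have hM := isCoh_twist hP' hcoh
  obtain ⟨c₀', hc₀'⟩ := H0Growth23.exists_inv (isInvertible_repCl c₀)
  rw [mk_repCl] at hc₀'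
  have hP'a : InvCl.mk P' hP' = a' * c₀' :=
    calc InvCl.mk P' hP' = InvCl.mk P' hP' * ((a * a') * (c₀ * c₀')) := by rw [ha', hc₀', mul_one, mul_one]
      _ = (InvCl.mk P hP * InvCl.mk P' hP') * (a' * c₀') := by rw [hPa]; ac_rfl
      _ = a' * c₀' := by rw [hPP, one_mul]
  haveI := Mumford23.mono_mulSec hM.1 b hb
  have hS : (ShortComplex.mk (EulerLib.mulSec (CohB1.tensorMod G P') b) (cokernel.π _)
      (cokernel.condition _)).ShortExact :=
    { exact := ShortComplex.exact_cokernel _ }
  have h := hh_right k hS hM (isCoh_twist hP hM) (isCoh_cokernel _ hM.1 (isCoh_twist hP hM)) i (e * c)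
  dsimp only at h
  rw [hh_tensor k hP, hh_tensor k hP', hh_tensor k hP', ← mul_assoc (InvCl.mk P' hP'), mul_comm (InvCl.mk P' hP'),
    hPP, one_mul, hP'a, show a' * c₀' * (e * c) = a' * e * (c₀' * c) by ac_rfl] at h
  exact h.trans (add_le_add (hB₁ G hG c hc) (hB₂ G hG _ ((hc₀.of_mul_eq_one k hc₀').mul k hc)))

variable [Infinite k]

theorem bddFam_iterFam (hproj : ∃ A : X.Modules, CohB1.IsAmple A) (a : InvCl X) :
    ∀ j, BddFam k (iterFam k a j) := by
  haveI := isNoetherian_of_proper (X := X) k
  intro j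
  induction j with
  | zero =>
    refine ⟨fun G hG => hG ▸ isCoh_structureModule X, fun e i => ?_⟩
    obtain ⟨B, hB⟩ := exists_uniform_bound k hproj (isCoh_twCl k (isCoh_structureModule X) e) i
    refine ⟨B, fun G hG c hc => ?_⟩
    rw [hG, ← hh_twCl]
    exact hB c hc
  | succ j ih => exact bddFam_cutFam k ih a

omit [Infinite k] in
theorem coh_iterFam (a : InvCl X) : ∀ (j : ℕ) (G : X.Modules), iterFam k a j G → Coh.IsCoh G := by
  haveI := isNoetherian_of_proper (X := X) k
  intro j
  induction j with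
  | zero => intro G hG; exact hG ▸ isCoh_structureModule X
  | succ j ih =>
    rintro H ⟨G, P, P', hP, hP', b, c₀, hG, -, -, -, -, rfl⟩
    exact isCoh_cokernel _ (isCoh_twist hP' (ih G hG)).1 (isCoh_twist hP (isCoh_twist hP' (ih G hG)))

omit [Infinite k] in
theorem dim_iterFam {n : ℕ} (hn : topologicalKrullDim X = n) (a : InvCl X) :
    ∀ (j : ℕ), j ≤ n → ∀ G, iterFam k a j G →
      topologicalKrullDim (CohB1.support G) < ((n - j + 1 : ℕ) : WithBot ℕ∞) := by
  haveI := isNoetherian_of_proper (X := X) k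
  intro j
  induction j with
  | zero =>
    intro _ G _
    refine lt_of_le_of_lt (Topology.IsInducing.subtypeVal.topologicalKrullDim_le) ?_
    rw [hn]
    exact_mod_cast Nat.lt_succ_self n
  | succ j ih =>
    rintro hj H ⟨G, P, P', hP, hP', b, c₀, hG, -, -, -, hb, rfl⟩
    refine dim_cokernel_lt k hP (isCoh_twist hP' (coh_iterFam k a j G hG)) b hb ?_
    rw [support_twist hP' G, show n - (j + 1) + 1 + 1 = n - j + 1 by omega]
    exact ih (by omega) G hG

/-- Generic recombination of the sections presents the quotient inside the family. -/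
theorem exists_quotSeq {K : ℕ} {L : X.Modules} (hL : PicF.IsInvertible L) (a c₀ : InvCl X) (hc₀ : IsNum k c₀)
    (hLa : InvCl.mk L hL = a * c₀) (b : Fin K → Γ(L, (⊤ : X.Opens))) (Zs : Set X)
    (hout : ∀ y ∉ Zs, ∃ i, y ∈ glocus L (b i))
    (hreg : ∀ z ∈ Zs, ∃ (U : X.Opens) (g : Γ(L, U)) (hg : IsGen L U g) (hz : z ∈ U),
      ∀ t : Fin K → Γ(L, (⊤ : X.Opens)),
        Ideal.span (Set.range fun i => coefGerm hg hz (t i)) = Ideal.span (Set.range fun i => coefGerm hg hz (b i)) →
        ∀ i : Fin K, coefGerm hg hz (t i) ∈ IsLocalRing.maximalIdeal (X.presheaf.stalk z) ∧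
          ∀ x, coefGerm hg hz (t i) * x ∈ pre (fun l => coefGerm hg hz (t l)) i →
            x ∈ pre (fun l => coefGerm hg hz (t l)) i) :
    ∃ (G : X.Modules) (p : Coh.structureModule X ⟶ G) (t : Fin K → Γ(L, (⊤ : X.Opens))), iterFam k a K G ∧
      QuotSeq G p t K ∧ ∀ (z : X) (U : X.Opens) (g : Γ(L, U)) (hg : IsGen L U g) (hz : z ∈ U),
        Ideal.span (Set.range fun i => coefGerm hg hz (t i)) =
          Ideal.span (Set.range fun i => coefGerm hg hz (b i)) := by
  haveI := isNoetherian_of_proper (X := X) k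
  obtain ⟨L', hinv⟩ := VarietyLib.exists_isInverseOf hL
  obtain ⟨eLL⟩ := hinv
  have hL' : PicF.IsInvertible L' :=
    PicM.isInvertible_of_tensor hL (glocus_isInvertible_of_iso eLL.symm isInvertible_structureModule)
  have hLL : InvCl.mk L hL * InvCl.mk L' hL' = 1 := InvCl.mk_eq _ _ eLL
  let comb : (Fin K → k) → Γ(L, (⊤ : X.Opens)) := fun v => ∑ i, baseHom k X (v i) • b i
  have hcomb : ∀ (z : X) (U : X.Opens) (g : Γ(L, U)) (hg : IsGen L U g) (hz : z ∈ U),
      letI : Algebra k (X.presheaf.stalk z) := ((X.presheaf.germ ⊤ z trivial).hom.comp (baseHom k X)).toAlgebra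
      ∀ v, coefGerm hg hz (comb v) = Fintype.linearCombination k (fun i => coefGerm hg hz (b i)) v := by
    intro z U g hg hz
    letI : Algebra k (X.presheaf.stalk z) := ((X.presheaf.germ ⊤ z trivial).hom.comp (baseHom k X)).toAlgebra
    intro v
    rw [Fintype.linearCombination_apply]
    show coefGerm hg hz (∑ i, baseHom k X (v i) • b i) = _
    induction (Finset.univ : Finset (Fin K)) using Finset.cons_induction with
    | empty => rw [Finset.sum_empty, Finset.sum_empty]; exact coefGerm_zero hg hz
    | cons i s hi ih =>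
      rw [Finset.sum_cons, Finset.sum_cons, coefGerm_add, coefGerm_smul, ih]
      congr 1
  have hspan : ∀ (w : Fin K → Fin K → k), Submodule.span k (Set.range w) = ⊤ →
      ∀ (z : X) (U : X.Opens) (g : Γ(L, U)) (hg : IsGen L U g) (hz : z ∈ U),
      Ideal.span (Set.range fun i => coefGerm hg hz (comb (w i))) =
        Ideal.span (Set.range fun i => coefGerm hg hz (b i)) := by
    intro w hw z U g hg hz
    letI : Algebra k (X.presheaf.stalk z) := ((X.presheaf.germ ⊤ z trivial).hom.comp (baseHom k X)).toAlgebra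
    refine le_antisymm (Ideal.span_le.2 ?_) (Ideal.span_le.2 ?_)
    · rintro _ ⟨i, rfl⟩
      beta_reduce
      rw [SetLike.mem_coe, hcomb z U g hg hz, Fintype.linearCombination_apply]
      exact sum_mem fun l _ => Submodule.smul_of_tower_mem _ _ (Ideal.subset_span (Set.mem_range_self l))
    · rintro _ ⟨i, rfl⟩
      classical
      have h1 : Pi.single i (1 : k) ∈ Submodule.span k (Set.range w) := hw ▸ Submodule.mem_top
      have h2 := Submodule.mem_map_of_mem (f := Fintype.linearCombination k (fun i => coefGerm hg hz (b i))) h1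
      rw [Fintype.linearCombination_apply_single, one_smul, Submodule.map_span, ← Set.range_comp] at h2
      refine (Submodule.span_le (R := k) (p := (Ideal.span (Set.range fun l => coefGerm hg hz (comb (w l)))).restrictScalars k)).2
        ?_ h2
      rintro _ ⟨l, rfl⟩
      rw [Function.comp_apply, ← hcomb z U g hg hz]
      exact Ideal.subset_span ⟨l, rfl⟩
  suffices ∀ j ≤ K, ∃ (w : Fin K → Fin K → k) (G : X.Modules) (p : Coh.structureModule X ⟶ G),
      Submodule.span k (Set.range w) = ⊤ ∧ iterFam k a j G ∧ QuotSeq G p (fun i => comb (w i)) j by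
    obtain ⟨w, G, p, hw, hG, hQ⟩ := this K le_rfl
    exact ⟨G, p, _, hG, hQ, hspan w hw⟩
  intro j
  induction j with
  | zero =>
    intro _
    classical
    refine ⟨fun i => Pi.single i 1, _, _, ?_, rfl, QuotSeq.zero _⟩
    rw [eq_top_iff]
    intro v _
    rw [← Finset.univ_sum_single v]
    refine sum_mem fun i _ => ?_
    have : Pi.single i (v i) = v i • (Pi.single i 1 : Fin K → k) := by rw [← Pi.single_smul, smul_eq_mul, mul_one]
    rw [this]
    exact Submodule.smul_mem _ _ (Submodule.subset_span ⟨i, rfl⟩)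
  | succ j ih =>
    intro hj
    obtain ⟨w, G, p, hw, hG, hQ⟩ := ih (by omega)
    have hGcoh := coh_iterFam k a j G hG
    set M := CohB1.tensorMod G L' with hM
    have hMcoh : Coh.IsCoh M := isCoh_twist hL' hGcoh
    have hfin := AssSch12.finite_ass M hMcoh
    have hassM : ∀ y ∈ AssSch.Ass M, y ∉ Zs := by
      intro y hy hyZ
      obtain ⟨U, g, hg, hz, h⟩ := hreg y hyZ
      obtain ⟨hmax, hr⟩ := h _ (hspan w hw y U g hg hz) ⟨j, by omega⟩
      refine hQ.notMem_ass hg hz _ hmax hr ?_
      obtain ⟨U', hyU', g', hg'⟩ := exists_isGen hL' y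
      exact ((EulerLib.twistStalkIso hyU' hg' G).toLinearEquiv.isAssociatedPrime_iff).2 hy
    haveI := hfin.to_subtype
    let i₁ : Fin K := ⟨j, by omega⟩
    have hwli : LinearIndependent k w := linearIndependent_of_top_le_span_of_card_eq_finrank hw.ge (by simp)
    let W : Submodule k (Fin K → k) := Submodule.span k (w '' {i | (i : ℕ) < j})
    let V : Option (AssSch.Ass M) → Submodule k (Fin K → k) := fun o => o.elim W fun y =>
      { carrier := {v | y.1 ∉ glocus L (comb v)}
        add_mem' := fun {v v'} hv hv' h => by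
          obtain ⟨U, hzU, g, hg⟩ := exists_isGen hL y.1
          letI : Algebra k (X.presheaf.stalk y.1) :=
            ((X.presheaf.germ ⊤ y.1 trivial).hom.comp (baseHom k X)).toAlgebra
          rw [Set.mem_ofPred_eq, mem_glocus_iff_coefGerm hg hzU, hcomb y.1 U g hg hzU] at hv hv'
          rw [mem_glocus_iff_coefGerm hg hzU, hcomb y.1 U g hg hzU, map_add] at h
          exact (IsLocalRing.nonunits_add hv hv') h
        zero_mem' := fun h => by
          obtain ⟨U, hzU, g, hg⟩ := exists_isGen hL y.1
          letI : Algebra k (X.presheaf.stalk y.1) :=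
            ((X.presheaf.germ ⊤ y.1 trivial).hom.comp (baseHom k X)).toAlgebra
          rw [mem_glocus_iff_coefGerm hg hzU, hcomb y.1 U g hg hzU, map_zero] at h
          exact not_isUnit_zero h
        smul_mem' := fun r v hv h => hv (by
          obtain ⟨U, hzU, g, hg⟩ := exists_isGen hL y.1
          letI : Algebra k (X.presheaf.stalk y.1) :=
            ((X.presheaf.germ ⊤ y.1 trivial).hom.comp (baseHom k X)).toAlgebra
          rw [mem_glocus_iff_coefGerm hg hzU, hcomb y.1 U g hg hzU, map_smul, Algebra.smul_def] at h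
          rw [mem_glocus_iff_coefGerm hg hzU, hcomb y.1 U g hg hzU]
          exact isUnit_of_mul_isUnit_right h) }
    have hV : ∀ o, V o ≠ ⊤ := by
      rintro (_ | y) htop
      · have h1 : w i₁ ∈ V none := htop.symm ▸ Submodule.mem_top
        exact hwli.notMem_span_image (fun h => lt_irrefl j h) h1
      · obtain ⟨i, hi⟩ := hout y.1 (hassM y.1 y.2)
        classical
        have h1 : y.1 ∉ glocus L (comb (Pi.single i 1)) :=
          (htop.symm ▸ Submodule.mem_top : Pi.single i (1 : k) ∈ V (some y))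
        obtain ⟨U, hzU, g, hg⟩ := exists_isGen hL y.1
        letI : Algebra k (X.presheaf.stalk y.1) :=
          ((X.presheaf.germ ⊤ y.1 trivial).hom.comp (baseHom k X)).toAlgebra
        rw [mem_glocus_iff_coefGerm hg hzU, hcomb y.1 U g hg hzU, Fintype.linearCombination_apply_single,
          one_smul] at h1
        exact h1 ((mem_glocus_iff_coefGerm hg hzU _).1 hi)
    obtain ⟨v, hv⟩ := Submodule.exists_forall_notMem_of_forall_ne_top V hV
    classical
    have hvmem : v ∈ Submodule.span k (Set.range w) := hw ▸ Submodule.mem_top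
    obtain ⟨c, hc⟩ := (Submodule.mem_span_range_iff_exists_fun k).1 hvmem
    have hex : ∃ i₀ : Fin K, j ≤ (i₀ : ℕ) ∧ c i₀ ≠ 0 := by
      by_contra hno
      push Not at hno
      refine hv none ?_
      show v ∈ Submodule.span k (w '' {i | (i : ℕ) < j})
      rw [← hc]
      refine sum_mem fun i _ => ?_
      rcases lt_or_ge (i : ℕ) j with h | h
      · exact Submodule.smul_mem _ _ (Submodule.subset_span (Set.mem_image_of_mem w h))
      · rw [hno i h, zero_smul]; exact zero_mem _
    obtain ⟨i₀, hi₀, hci₀⟩ := hex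
    let w' : Fin K → Fin K → k := Function.update (w ∘ Equiv.swap i₁ i₀) i₁ v
    have hw'v : w' i₁ = v := Function.update_self _ _ _
    have hw'lt : ∀ i : Fin K, (i : ℕ) < j → w' i = w i := fun i hi => by
      show Function.update _ _ _ i = _
      rw [Function.update_of_ne (Fin.ne_of_val_ne (show (i : ℕ) ≠ j by omega)), Function.comp_apply,
        Equiv.swap_apply_of_ne_of_ne (Fin.ne_of_val_ne (show (i : ℕ) ≠ j by omega))
          (Fin.ne_of_val_ne (by omega))]
    have hne : ∀ i, i ≠ i₀ → w i ∈ Submodule.span k (Set.range w') := fun i hi => by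
      refine Submodule.subset_span ⟨Equiv.swap i₁ i₀ i, ?_⟩
      show Function.update _ _ _ _ = _
      rw [Function.update_of_ne, Function.comp_apply, Equiv.swap_apply_self]
      intro h
      exact hi ((Equiv.swap i₁ i₀).injective (h.trans (Equiv.swap_apply_right i₁ i₀).symm))
    have hw' : Submodule.span k (Set.range w') = ⊤ := by
      rw [eq_top_iff, ← hw, Submodule.span_le]
      rintro _ ⟨i, rfl⟩
      by_cases hi : i = i₀
      · subst hi
        have hsum : c i • w i = v - ∑ l ∈ Finset.univ.erase i, c l • w l := by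
          rw [← hc, ← Finset.add_sum_erase _ _ (Finset.mem_univ i), add_sub_cancel_right]
        have h1 : c i • w i ∈ Submodule.span k (Set.range w') := by
          rw [hsum]
          exact sub_mem (Submodule.subset_span ⟨i₁, hw'v⟩)
            (sum_mem fun l hl => Submodule.smul_mem _ _ (hne l (Finset.ne_of_mem_erase hl)))
        simpa [hci₀] using Submodule.smul_mem _ (c i)⁻¹ h1
      · exact hne i hi
    obtain ⟨e₁⟩ := EulerLib.exists_assocIso' G hL' hL
    let θ : G ≅ CohB1.tensorMod M L :=
      (AmpleLib.unitTensorIso G).symm ≪≫ AmpleLib.tensorComm _ _ ≪≫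
        Coherent.tensorIso (Iso.refl G) (eLL.symm ≪≫ AmpleLib.tensorComm L L') ≪≫ e₁.symm
    have hQ' : QuotSeq G p (fun i => comb (w' i)) (i₁ : ℕ) := by
      refine ⟨hQ.surj, fun z U g hg hz r => ?_⟩
      rw [hQ.ker z U g hg hz r, pre, pre]
      refine Iff.of_eq (congrArg (r ∈ Ideal.span ·) (Set.image_congr fun i hi => ?_))
      show coefGerm hg hz (comb (w i)) = coefGerm hg hz (comb (w' i))
      rw [hw'lt i hi]
    refine ⟨w', cokernel (EulerLib.mulSec M (comb (w' i₁))), _, hw', ?_, hQ'.step i₁ hL θ⟩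
    refine ⟨G, L, L', hL, hL', comb (w' i₁), c₀, hG, hc₀, hLa, hLL, fun y hy => ?_, rfl⟩
    rw [hw'v]
    by_contra h
    exact hv (some ⟨y, hy⟩) h

end Groth.Agent.InterDiv23

end
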